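import Cfsg.Agent.Lib.Helper29.TcCox
import Cfsg.Prelude.Def_Spor_Fi22
import Cfsg.Agent.Lib.Helper29.FiF.Tab0

/-! Generated certificate data for FiF (Fi22): tables of a Todd–Coxeter trace and of the coset action. -/

set_option autoImplicit false

namespace Cfsg.Agent.Lib.Helper29.FiF

open Cfsg.Agent.Lib.Helper29.TcTrace Cfsg.Agent.Lib.Helper29.TcCert Cfsg.Agent.Lib.Helper29.TcPerm

def nodesL : List Cfsg.Spor.Fi22.Gen := [.b, .c]
def edgesQ : List (Cfsg.Spor.Fi22.Gen × ℕ × Cfsg.Spor.Fi22.Gen) := [(.b, 3, .c)]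
def extraWords : List (List (Cfsg.Spor.Fi22.Gen × Bool)) := [[(.a, true)],
  [(.d, true)],
  [(.e, true)],
  [(.f, true)],
  [(.g, true)],
  [(.h, true)],
  [(.i, true)]]
def hWords : List (List (Cfsg.Spor.Fi22.Gen × Bool)) := [[(.b, true)]]
def colOf : Cfsg.Spor.Fi22.Gen × Bool → ℕ
  | (.a, true) => 0
  | (.a, false) => 1
  | (.b, _) => 2
  | (.c, _) => 3
  | (.d, true) => 4
  | (.d, false) => 5
  | (.e, true) => 6
  | (.e, false) => 7
  | (.f, true) => 8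
  | (.f, false) => 9
  | (.g, true) => 10
  | (.g, false) => 11
  | (.h, true) => 12
  | (.h, false) => 13
  | (.i, true) => 14
  | (.i, false) => 15
def colLetters : List (Cfsg.Spor.Fi22.Gen × Bool) := [(.a, true), (.a, false), (.b, true), (.c, true), (.d, true), (.d, false), (.e, true), (.e, false), (.f, true), (.f, false), (.g, true), (.g, false), (.h, true), (.h, false), (.i, true), (.i, false)]
def invL : List ℕ := [1, 0, 2, 3, 5, 4, 7, 6, 9, 8, 11, 10, 13, 12, 15, 14]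
def vtree : WTree := (.node (.node (.node (.node (.node (.leaf 27 0 []) (.leaf 16 0 [6, 7])) (.node (.leaf 6 0 [8]) (.leaf 24 0 [14, 15]))) (.node (.node (.leaf 2 0 [3, 3]) (.leaf 20 0 [10, 11])) (.node (.leaf 10 0 [0, 1]) (.leaf 27 0 [])))) (.node (.node (.node (.leaf 1 0 [2, 3, 2, 3, 2, 3]) (.leaf 18 0 [8, 9])) (.node (.leaf 8 0 [12]) (.leaf 26 0 [2, 16]))) (.node (.node (.leaf 4 0 [4]) (.leaf 22 0 [12, 13])) (.node (.leaf 14 0 [4, 5]) (.leaf 27 0 []))))) (.node (.node (.node (.node (.leaf 0 0 [2, 2]) (.leaf 16 1 [7, 6])) (.node (.leaf 7 0 [10]) (.leaf 24 1 [15, 14]))) (.node (.node (.leaf 3 0 [0]) (.leaf 20 1 [11, 10])) (.node (.leaf 10 1 [1, 0]) (.leaf 27 0 [])))) (.node (.node (.node (.leaf 1 1 [3, 2, 3, 2, 3, 2]) (.leaf 18 1 [9, 8])) (.node (.leaf 9 0 [14]) (.leaf 26 1 [16, 2]))) (.node (.node (.leaf 5 0 [6]) (.leaf 22 1 [13, 12])) (.node (.leaf 14 1 [5, 4]) (.leaf 27 0 []))))))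
noncomputable def VL : List ℕ := [V0, V1, V2, V3, V4, V5, V6, V7, V8, V9, V10, V11, V12, V13, V14, V15]
noncomputable def RL : List ℕ := [R0, R1, R2, R3, R4, R5, R6, R7, R8, R9, R10, R11, R12, R13, R14, R15, R16]
noncomputable def D : Data := mkData 8 192 3 8 255 VL RL MG MT PAR PL FIN VERT vtree
def lay : Layout := ⟨8, 255, 5, 31, 93⟩
def cols : List ℕ := [0, 1, 2, 3, 4, 5, 6, 7, 8, 9, 10, 11, 12, 13, 14, 15]
def baseL : List (List ℕ) := [[2, 2],
  [2, 3, 2, 3, 2, 3],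
  [3, 3],
  [0],
  [4],
  [6],
  [8],
  [10],
  [12],
  [14],
  [0, 1],
  [1, 0],
  [2, 2],
  [3, 3],
  [4, 5],
  [5, 4],
  [6, 7],
  [7, 6],
  [8, 9],
  [9, 8],
  [10, 11],
  [11, 10],
  [12, 13],
  [13, 12],
  [14, 15],
  [15, 14],
  [2, 16]]
noncomputable def LL : List ℕ := [L0, L1, L2, L3, L4, L5, L6, L7, L8, L9, L10, L11, L12, L13, L14, L15]
noncomputable def P : LP where
  WL := 8
  WLn := 24
  mskL := 255
  LL := LL
  cols := [0, 1, 2, 3, 4, 5, 6, 7, 8, 9, 10, 11, 12, 13, 14, 15]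
  rels := [[2, 2],
    [2, 3, 2, 3, 2, 3],
    [3, 3],
    [0],
    [4],
    [6],
    [8],
    [10],
    [12],
    [14],
    [0, 1],
    [1, 0],
    [2, 2],
    [3, 3],
    [4, 5],
    [5, 4],
    [6, 7],
    [7, 6],
    [8, 9],
    [9, 8],
    [10, 11],
    [11, 10],
    [12, 13],
    [13, 12],
    [14, 15],
    [15, 14]]
  hws := [[2]]
  twl := [[],
    [2],
    [0],
    [1],
    [2],
    [3],
    [4],
    [5],
    [6],
    [7],
    [8],
    [9],
    [10],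
    [11],
    [12],
    [13],
    [14],
    [15]]
  nH := 1
  bounds := [8]

end Cfsg.Agent.Lib.Helper29.FiF
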