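import Cfsg.Agent.Lib.Helper29.FiF.Data

set_option autoImplicit false
set_option Elab.async false

namespace Cfsg.Agent.Lib.Helper29.FiF

open Cfsg.Agent.Lib.Helper29.TcTrace Cfsg.Agent.Lib.Helper29.TcCert Cfsg.Agent.Lib.Helper29.TcPerm

theorem ublk_0 : chkBlk D lay cols 128 24 0 0x5a8000000000000000000002940000000000000000000012a000000000000000000000850000000000000000000003a800000000000000000000194000000000000000000000aa000000000000000000000b10000000000000000000005080000000000000000000024400000000000000000000102000000000000000000000710000000000000000000003086717b56939460f70c0d6000000000000000000000000a2000000000000000000000b00000000000000000000005000000000000000000000024000000000000000000000100000000000000000000000700000000000000000000003006717b56939460f7002d6000000000000000000000000a019c5ed5a4e5183dc4d358000 = true := by decide +kernel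
theorem up_0_1 : ∀ b, 0 ≤ b → b < 1 → ∃ J, chkBlk D lay cols 128 24 b J = true := fun b h1 h2 => by
  have hb : b = 0 := Nat.le_antisymm (Nat.le_of_lt_succ h2) h1
  subst hb; exact ⟨_, ublk_0⟩

end Cfsg.Agent.Lib.Helper29.FiF
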